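import Groth.Agent.LcCxLib.DualityMod
import Groth.Agent.InjHullLib.Coext
import Groth.Agent.InjHullLib.Noetherian

/-!
# Injective amplitude of `A[X] ⊗ E`
-/

set_option autoImplicit false
set_option linter.all false
set_option maxHeartbeats 1000000

universe u

open CategoryTheory CategoryTheory.Limits Polynomial
open CategoryTheory.Pretriangulated (Triangle)
open Groth.Agent
open DTenLib.Point (hH sg)
open scoped TensorProduct

attribute [local instance] HasDerivedCategory.standard

noncomputable section

namespace InjPolyLib

open InjHullLib (coextLin coextMk coext_ext smul_coextend_apply)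

variable (A : Type u) [CommRing A] (M : Type u) [AddCommGroup M] [Module A M] [Module A[X] M]
  [IsScalarTower A A[X] M]

/-- The coinduced module. -/
abbrev C : ModuleCat.{u} A[X] := (ModuleCat.coextendScalars (algebraMap A A[X])).obj (ModuleCat.of A M)

theorem injective_C (hM : Module.Injective A M) : Module.Injective A[X] (C A M) := by
  haveI : Injective (ModuleCat.of A M) := Module.injective_object_of_injective_module A M
  haveI : Injective (C A M) :=
    Injective.injective_of_adjoint (ModuleCat.restrictCoextendScalarsAdj (algebraMap A A[X])) _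
  exact Module.injective_module_of_injective_object A[X] (C A M)

variable {A M}

/-- `p ↦ p • m`. -/
def u₀ (m : M) : C A M := coextMk ((LinearMap.toSpanSingleton A[X] M m).restrictScalars A)

theorem u₀_apply (m : M) (p : A[X]) : coextLin (u₀ m) p = p • m := rfl

/-- The embedding of a module into the coinduced module. -/
def uMap : M →ₗ[A[X]] C A M where
  toFun := u₀
  map_add' x y := coext_ext fun p => smul_add p x y
  map_smul' q x := coext_ext fun p => by
    show p • q • x = (p * q) • x
    rw [smul_smul]

/-- `φ ↦ (p ↦ φ (X p) - X φ p)`. -/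
def dMap : C A M →ₗ[A[X]] C A M where
  toFun φ := coextMk ((coextLin φ).comp (LinearMap.mulLeft A (X : A[X])) -
    (LinearMap.lsmul A[X] M X).restrictScalars A ∘ₗ coextLin φ)
  map_add' φ ψ := coext_ext fun p => by
    show (coextLin φ (X * p) + coextLin ψ (X * p)) - (X : A[X]) • (coextLin φ p + coextLin ψ p) =
      (coextLin φ (X * p) - (X : A[X]) • coextLin φ p) + (coextLin ψ (X * p) - (X : A[X]) • coextLin ψ p)
    rw [smul_add]
    abel
  map_smul' q φ := coext_ext fun p => by
    show coextLin φ (X * p * q) - (X : A[X]) • coextLin φ (p * q) =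
      coextLin φ (X * (p * q)) - (X : A[X]) • coextLin φ (p * q)
    rw [mul_assoc]

theorem coextLin_dMap (φ : C A M) (p : A[X]) :
    coextLin (dMap φ) p = coextLin φ (X * p) - (X : A[X]) • coextLin φ p := rfl

theorem uMap_injective : Function.Injective (uMap (A := A) (M := M)) := fun x y h => by
  have := congrArg (fun φ => coextLin φ (1 : A[X])) h
  simpa [uMap, u₀_apply] using this

theorem dMap_uMap (m : M) : dMap (uMap (A := A) m) = 0 := coext_ext fun p => by
  show (X * p) • m - (X : A[X]) • p • m = 0
  rw [smul_smul, sub_self]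

theorem exact_uMap_dMap : Function.Exact (uMap (A := A) (M := M)) dMap := fun φ => by
  refine ⟨fun h => ⟨coextLin φ 1, ?_⟩, fun ⟨m, hm⟩ => hm ▸ dMap_uMap m⟩
  have hX : ∀ p, coextLin φ (X * p) = (X : A[X]) • coextLin φ p := fun p =>
    sub_eq_zero.1 ((coextLin_dMap φ p).symm.trans (congrArg (fun ψ => coextLin ψ p) h))
  refine coext_ext fun p => ?_
  show p • coextLin φ 1 = coextLin φ p
  induction p using Polynomial.induction_on' with
  | add p q hp hq => rw [add_smul, hp, hq, map_add]
  | monomial n a =>
    induction n with
    | zero =>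
      rw [show monomial 0 a = a • (1 : A[X]) by rw [monomial_zero_left, Polynomial.smul_eq_C_mul, mul_one],
        map_smul, smul_assoc, one_smul]
    | succ n ih =>
      rw [show monomial (n + 1) a = X * monomial n a by rw [X_mul_monomial], hX, ← smul_smul, ih]

/-- A recursive solution of `d f = g`. -/
def solve (g : A[X] →ₗ[A] M) : ℕ → M
  | 0 => 0
  | n + 1 => (X : A[X]) • solve g n + g (monomial n 1)

theorem dMap_surjective : Function.Surjective (dMap (A := A) (M := M)) := fun ψ => by
  obtain ⟨f, hf⟩ : ∃ f : A[X] →ₗ[A] M, ∀ n, f (monomial n 1) = solve (coextLin ψ) n :=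
    ⟨(Polynomial.basisMonomials A).constr A (solve (coextLin ψ)), fun n => by
      have h := (Polynomial.basisMonomials A).constr_basis A (solve (coextLin ψ)) n
      simpa [Polynomial.coe_basisMonomials] using h⟩
  have hfψ : ∀ p, f (X * p) - (X : A[X]) • f p = coextLin ψ p := fun p => by
    induction p using Polynomial.induction_on' with
    | add p q hp hq => rw [mul_add, map_add, map_add, map_add, smul_add, ← hp, ← hq]; abel
    | monomial n a =>
      rw [show monomial n a = a • monomial n (1 : A) by rw [Polynomial.smul_monomial, smul_eq_mul, mul_one],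
        mul_smul_comm, map_smul, map_smul, map_smul, smul_comm, ← smul_sub, X_mul_monomial, hf, hf, solve,
        add_sub_cancel_left]
  exact ⟨coextMk f, coext_ext hfψ⟩

theorem hasInjAmplitude_zero_one (hM : Module.Injective A M) :
    DRing.HasInjAmplitudeIn A[X] 0 1 (Dual.inD A[X] M) := by
  refine DualCxLib.hasInjAmplitudeIn_of_ext fun I i hi => subsingleton_of_forall_eq 0 fun f => ?_
  let S : ShortComplex (ModuleCat.{u} A[X]) := ShortComplex.mk (ModuleCat.ofHom (uMap (A := A) (M := M)))
    (ModuleCat.ofHom dMap) (ModuleCat.hom_ext (LinearMap.ext fun m => dMap_uMap m))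
  have hS : S.ShortExact :=
    { exact := (ShortComplex.ShortExact.moduleCat_exact_iff_function_exact S).2 exact_uMap_dMap
      mono_f := (ModuleCat.mono_iff_injective _).2 uMap_injective
      epi_g := (ModuleCat.epi_iff_surjective _).2 dMap_surjective }
  have hC := LcCxLib.hasInjAmplitude_sg (C A M) (injective_C A M hM)
  let N : Dual.D A[X] := Dual.inD A[X] (A[X] ⧸ I)
  rcases hi with hi | hi
  · haveI := DerivedCategory.TStructure.t.isGE_shift (Dual.inD A[X] M) 0 i (-i) (by omega)
    exact DerivedCategory.TStructure.t.zero f 0 (-i) (by omega)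
  · have hz : ∀ j : ℤ, 0 < j → Subsingleton (N ⟶ (sg (C A M) 0)⟦j⟧) := fun j hj =>
      DualCxLib.ext_of_hasInjAmplitudeIn hC (A[X] ⧸ I) j (Or.inr hj)
    let T := (Triangle.shiftFunctor (Dual.D A[X]) i).obj hS.singleTriangle.invRotate
    have hT : T ∈ distTriang (Dual.D A[X]) :=
      Triangle.shift_distinguished _ (Pretriangulated.inv_rot_of_distTriang _ hS.singleTriangle_distinguished) i
    haveI : Subsingleton (N ⟶ T.obj₁) :=
      ((Iso.refl N).homCongr ((shiftFunctorAdd' (Dual.D A[X]) (-1) i (i - 1) (by omega)).app
        (sg (C A M) 0))).subsingleton_congr.1 (hz (i - 1) (by omega))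
    haveI : Subsingleton (N ⟶ T.obj₃) := hz i (by omega)
    obtain ⟨g, hg⟩ := Triangle.coyoneda_exact₂ T hT (X := N) f (Subsingleton.elim (α := N ⟶ T.obj₃) _ _)
    rw [hg, Subsingleton.elim (α := N ⟶ T.obj₁) g 0]
    exact Limits.zero_comp

theorem main (A : Type u) [CommRing A] [IsNoetherianRing A] (E : Type u) [AddCommGroup E] [Module A E]
    [Module.Injective A E] : DRing.HasInjAmplitudeIn A[X] 0 1 (Dual.inD A[X] (A[X] ⊗[A] E)) := by
  refine hasInjAmplitude_zero_one ?_
  classical
  haveI := InjHullLib.injective_directSum (R := A) (fun _ : ULift.{u} ℕ => E) fun _ => inferInstance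
  exact Module.Injective.of_ringEquiv (RingEquiv.refl A)
    (((TensorProduct.congr (((Polynomial.basisMonomials A).repr).trans
      (Finsupp.domLCongr Equiv.ulift.symm)) (LinearEquiv.refl A E)).trans
      (TensorProduct.finsuppScalarLeft A E (ULift.{u} ℕ))).trans (finsuppLEquivDirectSum A E _)).symm

end InjPolyLib
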